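import Mathlib
import Cfsg.Agent.H94.Majorana

/-!
Two Majorana axes of length one: the products `a ∘ (b ∘ b')` and `s ∘ s`, where `b' = μ b` and
`s = a ∘ b - (a + b)/32`, forced by the fusion law at `a`.
-/

set_option autoImplicit false

open Cfsg.Axial

namespace Cfsg.Agent.H94.Sakuma

variable {V : Type*} [AddCommGroup V] [Module ℝ V] {mul : V →ₗ[ℝ] V →ₗ[ℝ] V}
  {B : LinearMap.BilinForm ℝ V}

/-- The product corrected by `(a + b)/32`. -/
noncomputable def sOf (mul : V →ₗ[ℝ] V →ₗ[ℝ] V) (a b : V) : V := mul a b - (1 / 32 : ℝ) • (a + b)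

/-- The setting: commutative product, symmetric associating form. -/
structure Assoc (mul : V →ₗ[ℝ] V →ₗ[ℝ] V) (B : LinearMap.BilinForm ℝ V) : Prop where
  comm : ∀ u v : V, mul u v = mul v u
  symm : ∀ u v : V, B u v = B v u
  assoc : ∀ u v w : V, B u (mul v w) = B (mul u v) w

theorem mul_eq_sOf (a b : V) : mul a b = sOf mul a b + (1 / 32 : ℝ) • (a + b) := by
  unfold sOf; abel

theorem Assoc.sOf_comm (hS : Assoc mul B) (a b : V) : sOf mul a b = sOf mul b a := by
  unfold sOf; rw [hS.comm, add_comm a b]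

theorem axis_self {μ : V ≃ₗ[ℝ] V} {a : V} (h : IsMajoranaPair mul B μ a) : μ a = a :=
  h.2.2.2.1 a (Submodule.mem_iSup_of_mem 1 (Submodule.mem_iSup_of_mem (by simp)
    (Majorana.mem_eigen.2 (by rw [one_smul]; exact Majorana.idem h))))

/-- A Majorana involution is determined by its axis. -/
theorem eq_of_axis {μ ν : V ≃ₗ[ℝ] V} {a : V} (h : IsMajoranaPair mul B μ a)
    (h' : IsMajoranaPair mul B ν a) : μ = ν := by
  apply LinearEquiv.ext
  intro v
  obtain ⟨c, x, y, w, hv, hx, hy, hw, hμ⟩ := Majorana.decompose h v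
  have hfix : ∀ t (e : ℝ), e ∈ ({1, 0, 1 / 4} : Set ℝ) → mul a t = e • t → ν t = t := fun t e he ht =>
    h'.2.2.2.1 t (Submodule.mem_iSup_of_mem e (Submodule.mem_iSup_of_mem he (Majorana.mem_eigen.2 ht)))
  have h1 : ν w = -w := h'.2.2.2.2 w (Majorana.mem_eigen.2 hw)
  rw [hμ, hv, map_add, map_add, map_add, map_smul, axis_self h', h1,
    hfix x 0 (by simp) (by rw [zero_smul]; exact hx), hfix y (1 / 4) (by simp) hy]
  abel

theorem invol {μ : V ≃ₗ[ℝ] V} {a : V} (h : IsMajoranaPair mul B μ a) (v : V) : μ (μ v) = v := by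
  obtain ⟨c, x, y, w, hv, hx, hy, hw, hμ⟩ := Majorana.decompose h v
  have hfix : ∀ t (e : ℝ), e ∈ ({1, 0, 1 / 4} : Set ℝ) → mul a t = e • t → μ t = t := fun t e he ht =>
    h.2.2.2.1 t (Submodule.mem_iSup_of_mem e (Submodule.mem_iSup_of_mem he (Majorana.mem_eigen.2 ht)))
  have h1 : μ w = -w := h.2.2.2.2 w (Majorana.mem_eigen.2 hw)
  rw [hμ, map_sub, map_add, map_add, map_smul, axis_self h, h1,
    hfix x 0 (by simp) (by rw [zero_smul]; exact hx), hfix y (1 / 4) (by simp) hy, hv]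
  abel

theorem form_swap {μ : V ≃ₗ[ℝ] V} {a : V} (h : IsMajoranaPair mul B μ a) (x y : V) :
    B (μ x) y = B x (μ y) := by
  conv_lhs => rw [← invol h y, h.2.1]

/-- The decomposition with identified coefficient. -/
theorem decompose_form (hS : Assoc mul B) {μ : V ≃ₗ[ℝ] V} {a : V} (h : IsMajoranaPair mul B μ a)
    (ha : B a a = 1) (b : V) : ∃ x y w : V, b = B a b • a + x + y + w ∧ mul a x = 0 ∧
      mul a y = (1 / 4 : ℝ) • y ∧ mul a w = (1 / 32 : ℝ) • w ∧ μ b = B a b • a + x + y - w := by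
  obtain ⟨c, x, y, w, hv, hx, hy, hw, hμ⟩ := Majorana.decompose h b
  have haa := Majorana.idem h
  have hzero : ∀ t (e : ℝ), e ≠ 1 → mul a t = e • t → B a t = 0 := by
    intro t e he ht
    have h1 := hS.assoc a a t
    rw [ht, haa, map_smul, smul_eq_mul] at h1
    have : (e - 1) * B a t = 0 := by linarith
    exact (mul_eq_zero.1 this).resolve_left (sub_ne_zero.2 he)
  have hc : B a b = c := by
    rw [hv, map_add, map_add, map_add, map_smul, smul_eq_mul, ha,
      hzero x 0 (by norm_num) (by rw [zero_smul]; exact hx), hzero y (1 / 4) (by norm_num) hy,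
      hzero w (1 / 32) (by norm_num) hw]
    ring
  rw [hc]
  exact ⟨x, y, w, hv, hx, hy, hw, hμ⟩

theorem sOf_invariant (hS : Assoc mul B) {μ : V ≃ₗ[ℝ] V} {a : V} (h : IsMajoranaPair mul B μ a)
    (ha : B a a = 1) (b : V) : μ (sOf mul a b) = sOf mul a b := by
  obtain ⟨x, y, w, hv, hx, hy, hw, hμ⟩ := decompose_form hS h ha b
  have h1 : μ (sOf mul a b) = sOf mul a (μ b) := by
    unfold sOf
    rw [map_sub, map_smul, map_add, h.1, axis_self h]
  rw [h1]
  unfold sOf
  rw [hμ]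
  conv_rhs => rw [hv]
  simp only [map_add, map_sub, map_smul, hx, hy, hw, Majorana.idem h]
  module

/-- The quarter component. -/
noncomputable def vPart (mul : V →ₗ[ℝ] V →ₗ[ℝ] V) (L : ℝ) (a b b' : V) : V :=
  (4 : ℝ) • (sOf mul a b + (1 / 32 - L) • a + (1 / 64 : ℝ) • (b + b'))

/-- The kernel component. -/
noncomputable def uPart (mul : V →ₗ[ℝ] V →ₗ[ℝ] V) (L : ℝ) (a b b' : V) : V :=
  (1 / 2 : ℝ) • (b + b') - L • a - vPart mul L a b b'

theorem parts (hS : Assoc mul B) {μ : V ≃ₗ[ℝ] V} {a : V} (h : IsMajoranaPair mul B μ a)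
    (ha : B a a = 1) {b : V} {L : ℝ} (hL : B a b = L) :
    mul a (vPart mul L a b (μ b)) = (1 / 4 : ℝ) • vPart mul L a b (μ b) ∧
      mul a (uPart mul L a b (μ b)) = 0 := by
  obtain ⟨x, y, w, hv, hx, hy, hw, hμ⟩ := decompose_form hS h ha b
  rw [hL] at hv hμ
  have e : vPart mul L a b (μ b) = y := by
    unfold vPart sOf
    rw [hμ, hv]
    simp only [map_add, map_sub, map_smul, hx, hy, hw, Majorana.idem h]
    module
  have e' : uPart mul L a b (μ b) = x := by
    unfold uPart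
    rw [e, hμ, hv]
    module
  rw [e, e']
  exact ⟨hy, hx⟩

theorem mul_sOf (hS : Assoc mul B) {μ : V ≃ₗ[ℝ] V} {a : V} (h : IsMajoranaPair mul B μ a)
    (ha : B a a = 1) {b : V} {L : ℝ} (hL : B a b = L) :
    mul a (sOf mul a b) = (31 / 32 * L - 1 / 32) • a + (7 / 32 : ℝ) •
      (sOf mul a b + (1 / 32 - L) • a + (1 / 64 : ℝ) • (b + μ b)) := by
  obtain ⟨x, y, w, hv, hx, hy, hw, hμ⟩ := decompose_form hS h ha b
  rw [hL] at hv hμ
  unfold sOf
  rw [hμ, hv]
  simp only [map_add, map_sub, map_smul, hx, hy, hw, Majorana.idem h, smul_zero, map_zero]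
  module

theorem form_sOf (hS : Assoc mul B) {μ : V ≃ₗ[ℝ] V} {a : V} (h : IsMajoranaPair mul B μ a)
    (ha : B a a = 1) {b : V} {L : ℝ} (hL : B a b = L) :
    B a (sOf mul a b) = 31 / 32 * L - 1 / 32 := by
  unfold sOf
  rw [map_sub, map_smul, map_add, hS.assoc, Majorana.idem h, hL, ha, smul_eq_mul]
  ring

section TwoAxes

variable {μ ν : V ≃ₗ[ℝ] V} {a b : V}

/-- Both neighbours at distance two have the same inner product. -/
theorem form_two_eq (hS : Assoc mul B) (hμ : IsMajoranaPair mul B μ a) (hν : IsMajoranaPair mul B ν b)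
    (ha : B a a = 1) (hb : B b b = 1) : B b (μ b) = B a (ν a) := by
  have h1 : B b (mul a (sOf mul a b)) = B a (mul b (sOf mul b a)) := by
    rw [hS.assoc, hS.assoc, hS.sOf_comm b a, hS.comm b a]
  rw [mul_sOf hS hμ ha rfl, mul_sOf hS hν hb (hS.symm b a)] at h1
  have e1 := form_sOf hS hν hb (hS.symm b a)
  have e2 := form_sOf hS hμ ha (rfl : B a b = B a b)
  rw [hS.sOf_comm b a] at e1 h1
  simp only [map_add, map_smul, smul_eq_mul, e1, e2, ha, hb, hS.symm b a] at h1
  linarith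

variable {L M : ℝ}

/-- The forced products at the centre `a`. -/
theorem center (hS : Assoc mul B) (hμ : IsMajoranaPair mul B μ a) (hν : IsMajoranaPair mul B ν b)
    (ha : B a a = 1) (hb : B b b = 1) (hL : B a b = L) (hM : B a (ν a) = M) :
    mul a (sOf mul b (μ b)) = (-32 / 3 * L ^ 2 + 5 / 3 * L - 1 / 24 * M - 127 / 3072) • a
        + ((1 / 3 * L - 19 / 1536) / 2) • (b + μ b) + (7 / 6144 : ℝ) • (ν a + μ (ν a))
        + (32 / 3 * L - 19 / 48) • sOf mul a b + (7 / 96 : ℝ) • sOf mul a (ν a)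
    ∧ mul (sOf mul a b) (sOf mul a b) =
        (7 / 6 * L ^ 2 - 7 / 384 * L + 7 / 1536 * M - 7 / 98304) • a
        + ((49 / 384 * L - 245 / 98304) / 2) • (b + μ b) + (49 / 196608 : ℝ) • (ν a + μ (ν a))
        + (-5 / 12 * L - 13 / 1536) • sOf mul a b + (-7 / 1536 : ℝ) • sOf mul a (ν a)
        + (7 / 2048 : ℝ) • sOf mul b (μ b) := by
  set b' := μ b with hb'
  set c := ν a with hc
  set c' := μ c with hc'
  set s := sOf mul a b with hs
  set s2 := sOf mul a c with hs2
  set S := sOf mul b b' with hSdef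
  have hsinv : μ s = s := sOf_invariant hS hμ ha b
  have haa := Majorana.idem hμ
  have hμa := axis_self hμ
  have hbb := Majorana.idem hν
  have hb'b' : mul b' b' = b' := by rw [hb', ← hμ.1, hbb]
  have hab : mul a b = s + (1 / 32 : ℝ) • (a + b) := mul_eq_sOf a b
  have hab' : mul a b' = s + (1 / 32 : ℝ) • (a + b') := by
    have h1 := congrArg μ hab
    rwa [hμ.1, hμa, map_add, map_smul, map_add, hsinv, hμa] at h1
  have hac : mul a c = s2 + (1 / 32 : ℝ) • (a + c) := mul_eq_sOf a c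
  have hac' : mul a c' = s2 + (1 / 32 : ℝ) • (a + c') := by
    have h1 := congrArg μ hac
    rwa [hμ.1, hμa, map_add, map_smul, map_add, sOf_invariant hS hμ ha c, hμa] at h1
  have hbb'' : mul b b' = S + (1 / 32 : ℝ) • (b + b') := mul_eq_sOf b b'
  have hb'b : mul b' b = S + (1 / 32 : ℝ) • (b + b') := by rw [hS.comm]; exact hbb''
  have has := mul_sOf hS hμ ha hL
  rw [← hs, ← hb'] at has
  have hbs : mul b s = (31 / 32 * L - 1 / 32) • b + (7 / 32 : ℝ) •
      (s + (1 / 32 - L) • b + (1 / 64 : ℝ) • (a + c)) := by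
    have h1 := mul_sOf hS hν hb ((hS.symm b a).trans hL)
    rwa [hS.sOf_comm b a] at h1
  have hb's : mul b' s = (31 / 32 * L - 1 / 32) • b' + (7 / 32 : ℝ) •
      (s + (1 / 32 - L) • b' + (1 / 64 : ℝ) • (a + c')) := by
    have h1 := congrArg μ hbs
    rw [hμ.1, hsinv] at h1
    simpa only [map_add, map_smul, hμa, hsinv] using h1
  have hM' : B b b' = M := (form_two_eq hS hμ hν ha hb).trans hM
  have hab_ : B a b' = L := by rw [hb', ← form_swap hμ, hμa, hL]
  have hb'n : B b' b' = 1 := by rw [hb', hμ.2.1, hb]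
  have hfas := form_sOf hS hμ ha hL
  rw [← hs] at hfas
  have hfbs : B b s = 31 / 32 * L - 1 / 32 := by
    have h1 := form_sOf hS hν hb ((hS.symm b a).trans hL)
    rwa [hS.sOf_comm b a] at h1
  have hfb's : B b' s = 31 / 32 * L - 1 / 32 := by rw [hb', ← hsinv, hμ.2.1]; exact hfbs
  have hfss : B s s = (31 / 32 * L - 1 / 32 + 7 / 32 * (1 / 32 - L)) * L
      + 7 / 32 * (31 / 32 * L - 1 / 32) + 7 / 2048 * (1 + M) - 2 / 32 * (31 / 32 * L - 1 / 32) := by
    conv_lhs => rw [show B s s = B (mul a b - (1 / 32 : ℝ) • (a + b)) s from rfl]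
    rw [map_sub, map_smul, map_add, LinearMap.sub_apply, LinearMap.smul_apply, LinearMap.add_apply,
      hfas, hfbs, hS.comm a b, ← hS.assoc b a s, has]
    simp only [map_add, map_smul, smul_eq_mul, hS.symm b a, hL, hfbs, hb, hM']
    ring
  obtain ⟨hv, hu⟩ := parts hS hμ ha hL
  rw [← hb'] at hv hu
  have hE0 := Majorana.mul_zero_zero hμ hu hu
  have hE1 := Majorana.mul_zero_quarter hμ hu hv
  have hE2 : mul a (mul (vPart mul L a b b') (vPart mul L a b b')) =
      ((1 / 4 : ℝ) * B (vPart mul L a b b') (vPart mul L a b b')) • a := by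
    have hm := Majorana.mul_quarter_quarter hμ hv hv
    rw [Majorana.eigenSum_pair, hμ.2.2.1.2, Submodule.mem_sup] at hm
    obtain ⟨p, hp, r, hr, hpr⟩ := hm
    obtain ⟨t, rfl⟩ := Submodule.mem_span_singleton.1 hp
    rw [Majorana.mem_eigen, zero_smul] at hr
    have hBr : B a r = 0 := by
      have h1 := hS.assoc a a r
      rw [hr, haa, map_zero] at h1
      exact h1.symm
    have ht : t = (1 / 4 : ℝ) * B (vPart mul L a b b') (vPart mul L a b b') := by
      have h1 := hS.assoc a (vPart mul L a b b') (vPart mul L a b b')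
      rw [← hpr, hv, map_smul, map_add, map_smul, LinearMap.smul_apply, hBr, ha, smul_eq_mul,
        smul_eq_mul] at h1
      linarith
    rw [← hpr, map_add, map_smul, hr, haa, ← ht, add_zero]
  have e1 : sOf mul a b = s := hs.symm
  simp only [uPart, vPart, e1, map_add, map_sub, map_smul, LinearMap.add_apply, LinearMap.sub_apply,
    LinearMap.smul_apply, smul_add, smul_sub, smul_smul, haa, hbb, hb'b', hab, hab', hS.comm b a,
    hS.comm b' a, hbb'', hb'b, has, hS.comm s a, hbs, hb's, hS.comm s b, hS.comm s b', hac, hac',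
    smul_eq_mul, ha, hb, hb'n, hL, hab_, hS.symm b a, hS.symm b' a, hM', hS.symm b' b, hfas, hfbs,
    hfb's, hS.symm s a, hS.symm s b, hS.symm s b', hfss] at hE0 hE1 hE2
  have hY : mul a S = (-32 / 3 * L ^ 2 + 5 / 3 * L - 1 / 24 * M - 127 / 3072) • a
      + ((1 / 3 * L - 19 / 1536) / 2) • (b + b') + (7 / 6144 : ℝ) • (c + c')
      + (32 / 3 * L - 19 / 48) • s + (7 / 96 : ℝ) • s2 := by
    linear_combination (norm := module) (8 / 3 : ℝ) • hE0 - (8 / 3 : ℝ) • hE2
  refine ⟨hY, ?_⟩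
  linear_combination (norm := module)
    (1 / 4 : ℝ) • hE1 - (1 / 24 : ℝ) • hE0 + (7 / 24 : ℝ) • hE2

end TwoAxes

end Cfsg.Agent.H94.Sakuma
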