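import Mathlib

/-!
The two polynomial relations between the inner products `L = (a₀, a₁)` and `M = (a₀, a₂)` of two Majorana
axes have nine common zeros, and at each one some inner product `(a₀, a_N)`, `N ≤ 6`, equals one.
-/

set_option autoImplicit false

namespace Cfsg.Agent.H94.Sakuma

/-- First relation. -/
def relF (L M : ℝ) : ℝ :=
  6291456 * L ^ 4 - 6979584 * L ^ 3 + 122880 * L ^ 2 * M + 552960 * L ^ 2 + 26688 * L * M - 14400 * L
    + 384 * M ^ 2 - 501 * M + 117

/-- Second relation. -/
def relG (L M : ℝ) : ℝ :=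
  3221225472 * L ^ 5 - 3630170112 * L ^ 4 + 157286400 * L ^ 3 * M + 264830976 * L ^ 3
    - 9560064 * L ^ 2 * M - 5160960 * L ^ 2 + 565248 * L * M ^ 2 + 995136 * L * M - 12096 * L
    + 16704 * M ^ 2 - 17406 * M + 702

/-- The coefficient of the recursion. -/
noncomputable def coefP (L M : ℝ) : ℝ :=
  32768 / 7 * L ^ 2 - 2304 / 7 * L + 128 / 7 * M + 33 / 7

/-- The inner product of axes at distance 3. -/
noncomputable def ip3 (L M : ℝ) : ℝ := M + (256 * L + 24) * (L - M) + coefP L M * (1 - L)

/-- The inner product of axes at distance 4. -/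
noncomputable def ip4 (L M : ℝ) : ℝ :=
  L - (256 * L - 6) * (ip3 L M - 1) - coefP L M * (M - L) - 30 * (L - M)

/-- The inner product of axes at distance 5. -/
noncomputable def ip5 (L M : ℝ) : ℝ :=
  1 - (256 * L - 6) * (ip4 L M - L) - coefP L M * (ip3 L M - M) + 30 * (L - M)

/-- The inner product of axes at distance 6. -/
noncomputable def ip6 (L M : ℝ) : ℝ :=
  L - (256 * L - 6) * (ip5 L M - M) - coefP L M * (ip4 L M - ip3 L M) - 30 * (L - M)

theorem cases (L M : ℝ) (hf : relF L M = 0) (hg : relG L M = 0) :
    L = 1 ∨ M = 1 ∨ ip3 L M = 1 ∨ ip4 L M = 1 ∨ ip5 L M = 1 ∨ ip6 L M = 1 := by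
  unfold relF at hf
  unfold relG at hg
  set A := 23592960 * L ^ 3 + 54190080 * L ^ 2 - 571680 * L - 8775 / 2 with hA
  set B := 6039797760 * L ^ 5 - 6370099200 * L ^ 4 + 245514240 * L ^ 3 + 8017920 * L ^ 2
    - 442080 * L + 8775 / 2 with hB
  have hlin : A * M + B = 0 ∨ -(A * M + B) = 0 := by
    first
      | exact Or.inl (by rw [hA, hB]; linear_combination hg - (1472 * L + 87 / 2) * hf)
      | exact Or.inl (by rw [hA, hB]; linear_combination -hg + (1472 * L + 87 / 2) * hf)
      | exact Or.inl (by rw [hA, hB]; linear_combination -hg - (1472 * L + 87 / 2) * hf)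
  have hl : A * M + B = 0 := hlin.elim id neg_eq_zero.1
  have hr : L * (L - 1) * (8 * L - 1) * (256 * L - 13) * (64 * L - 1) ^ 2 * (32 * L - 1) *
      (128 * L - 3) * (256 * L - 5) = 0 := by
    have h : (-4877107200 : ℝ) * (L * (L - 1) * (8 * L - 1) * (256 * L - 13) * (64 * L - 1) ^ 2 *
        (32 * L - 1) * (128 * L - 3) * (256 * L - 5)) = 0 := by
      simp only [hA, hB] at hl
      linear_combination (23592960 * L ^ 3 + 54190080 * L ^ 2 - 571680 * L - 8775 / 2) ^ 2 * hf
        - (384 * ((23592960 * L ^ 3 + 54190080 * L ^ 2 - 571680 * L - 8775 / 2) * M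
            + (6039797760 * L ^ 5 - 6370099200 * L ^ 4 + 245514240 * L ^ 3 + 8017920 * L ^ 2
              - 442080 * L + 8775 / 2))
          - 768 * (6039797760 * L ^ 5 - 6370099200 * L ^ 4 + 245514240 * L ^ 3 + 8017920 * L ^ 2
              - 442080 * L + 8775 / 2)
          + (122880 * L ^ 2 + 26688 * L - 501) *
            (23592960 * L ^ 3 + 54190080 * L ^ 2 - 571680 * L - 8775 / 2)) * hl
    exact (mul_eq_zero.1 h).resolve_left (by norm_num)
  simp only [mul_eq_zero, pow_eq_zero_iff two_ne_zero] at hr
  rcases hr with ((((((((h | h) | h) | h) | h) | h) | h) | h))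
  · have : L = 0 := h
    subst this
    right; left
    norm_num [hA, hB] at hl
    linarith
  · left; linarith
  · have : L = 1 / 8 := by linarith
    subst this
    right; left
    norm_num [hA, hB] at hl
    linarith
  · have : L = 13 / 256 := by linarith
    subst this
    have : M = 13 / 256 := by norm_num [hA, hB] at hl; linarith
    subst this
    norm_num [ip3, coefP]
  · have : L = 1 / 64 := by linarith
    subst this
    have : (M - 1 / 64) * (M - 1 / 8) = 0 := by
      norm_num at hf; linear_combination (1 / 384 : ℝ) * hf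
    rcases mul_eq_zero.1 this with e | e
    · have : M = 1 / 64 := by linarith
      subst this
      norm_num [ip3, coefP]
    · have : M = 1 / 8 := by linarith
      subst this
      norm_num [ip3, ip4, coefP]
  · have : L = 1 / 32 := by linarith
    subst this
    have : M = 0 := by norm_num [hA, hB] at hl; linarith
    subst this
    norm_num [ip3, ip4, coefP]
  · have : L = 3 / 128 := by linarith
    subst this
    have : M = 3 / 128 := by norm_num [hA, hB] at hl; linarith
    subst this
    norm_num [ip3, ip4, ip5, coefP]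
  · have : L = 5 / 256 := by linarith
    subst this
    have : M = 13 / 256 := by norm_num [hA, hB] at hl; linarith
    subst this
    norm_num [ip3, ip4, ip5, ip6, coefP]

end Cfsg.Agent.H94.Sakuma
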