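import Mathlib
import Cfsg.Agent.H94.Sakuma.Center
import Cfsg.Agent.H94.Sakuma.Poly

/-!
The product of two Majorana involutions with axes of length one has order at most 6.
-/

set_option autoImplicit false

open Cfsg.Axial

namespace Cfsg.Agent.H94.Sakuma

variable {V : Type*} [AddCommGroup V] [Module ℝ V] {mul : V →ₗ[ℝ] V →ₗ[ℝ] V}
  {B : LinearMap.BilinForm ℝ V}

theorem eq_of_form_one (hpos : ∀ u : V, u ≠ 0 → 0 < B u u) (hsym : ∀ u v : V, B u v = B v u)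
    {x y : V} (hx : B x x = 1) (hy : B y y = 1) (hxy : B x y = 1) : x = y := by
  by_contra hne
  have := hpos (x - y) (sub_ne_zero.2 hne)
  simp only [map_sub, LinearMap.sub_apply, hx, hy, hxy, hsym y x] at this
  linarith

section Group

variable {μ₀ μ₁ : V ≃ₗ[ℝ] V}

theorem sq_one {μ : V ≃ₗ[ℝ] V} {a : V} (h : IsMajoranaPair mul B μ a) : μ * μ = 1 :=
  LinearEquiv.ext fun v => invol h v

theorem conj_eq {μ : V ≃ₗ[ℝ] V} {a : V} (h : IsMajoranaPair mul B μ a) (φ : V ≃ₗ[ℝ] V)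
    (hm : ∀ u v : V, φ (mul u v) = mul (φ u) (φ v)) (hB : ∀ u v : V, B (φ u) (φ v) = B u v)
    {ν : V ≃ₗ[ℝ] V} {c : V} (h' : IsMajoranaPair mul B ν c) (e : φ a = c) : φ * μ * φ⁻¹ = ν := by
  refine eq_of_axis (e ▸ Majorana.map h φ hm hB) h'

end Group

theorem six (hS : Assoc mul B) (hpos : ∀ u : V, u ≠ 0 → 0 < B u u) {μ₀ μ₁ : V ≃ₗ[ℝ] V} {a₀ a₁ : V}
    (h₀ : IsMajoranaPair mul B μ₀ a₀) (h₁ : IsMajoranaPair mul B μ₁ a₁)
    (hn₀ : B a₀ a₀ = 1) (hn₁ : B a₁ a₁ = 1) : ∃ n : ℕ, 1 ≤ n ∧ n ≤ 6 ∧ (μ₀ * μ₁) ^ n = 1 := by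
  set L := B a₀ a₁ with hLdef
  have hL : B a₀ a₁ = L := hLdef.symm
  set M := B a₀ (μ₁ a₀) with hMdef
  have hM : B a₀ (μ₁ a₀) = M := hMdef.symm
  have hM1 : B a₁ (μ₀ a₁) = M := (form_two_eq hS h₀ h₁ hn₀ hn₁).trans hM
  set am1 := μ₀ a₁ with ham1
  set a2 := μ₁ a₀ with ha2
  set am2 := μ₀ a2 with ham2
  set a3 := μ₁ am1 with ha3
  set a4 := μ₁ am2 with ha4
  -- norms and idempotents
  have n_m1 : B am1 am1 = 1 := by rw [ham1, h₀.2.1, hn₁]
  have n_2 : B a2 a2 = 1 := by rw [ha2, h₁.2.1, hn₀]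
  have n_m2 : B am2 am2 = 1 := by rw [ham2, h₀.2.1, n_2]
  have n_3 : B a3 a3 = 1 := by rw [ha3, h₁.2.1, n_m1]
  have n_4 : B a4 a4 = 1 := by rw [ha4, h₁.2.1, n_m2]
  have i_m1 : mul am1 am1 = am1 := by rw [ham1, ← h₀.1, Majorana.idem h₁]
  have i_3 : mul a3 a3 = a3 := by rw [ha3, ← h₁.1, i_m1]
  have f0 := axis_self h₀
  have f1 := axis_self h₁
  -- the three invariant products
  set s := sOf mul a₀ a₁ with hs
  set s2 := sOf mul a₀ a2 with hs2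
  set S := sOf mul a₁ am1 with hSdef
  have s_0 : μ₀ s = s := sOf_invariant hS h₀ hn₀ a₁
  have s_1 : μ₁ s = s := by
    rw [hs, hS.sOf_comm]; exact sOf_invariant hS h₁ hn₁ a₀
  have s2_0 : μ₀ s2 = s2 := sOf_invariant hS h₀ hn₀ a2
  have S_1 : μ₁ S = S := sOf_invariant hS h₁ hn₁ am1
  have s2_1 : μ₁ s2 = s2 := by
    have e : μ₁ a2 = a₀ := invol h₁ a₀
    rw [hs2]; unfold sOf
    rw [map_sub, map_smul, map_add, h₁.1, e, ← ha2, hS.comm, add_comm a2]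
  have S_0 : μ₀ S = S := by
    have e : μ₀ am1 = a₁ := invol h₀ a₁
    rw [hSdef]; unfold sOf
    rw [map_sub, map_smul, map_add, h₀.1, e, ← ham1, hS.comm, add_comm am1]
  -- inner products of axes
  have p0m1 : B a₀ am1 = L := by rw [ham1, ← form_swap h₀, f0, hL]
  have p12 : B a₁ a2 = L := by rw [ha2, ← form_swap h₁, f1, hS.symm a₁, hL]
  have p0m2 : B a₀ am2 = M := by rw [ham2, ← form_swap h₀, f0, hM]
  have p13 : B a₁ a3 = M := by rw [ha3, ← form_swap h₁, f1, hM1]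
  have pm1m2 : B am1 am2 = L := by rw [ham1, ham2, h₀.2.1, p12]
  have p32 : B a3 a2 = L := by rw [ha3, ha2, h₁.2.1, hS.symm am1, p0m1]
  set N3 := B a₀ a3 with hN3def
  have p03 : B a₀ a3 = N3 := hN3def.symm
  have p2m1 : B a2 am1 = N3 := by rw [ha2, form_swap h₁, ← ha3]
  have p1m2 : B a₁ am2 = N3 := by rw [ham2, ← form_swap h₀, ← ham1, hS.symm am1, p2m1]
  set N4 := B a₀ a4 with hN4def
  have p04 : B a₀ a4 = N4 := hN4def.symm
  have p2m2 : B a2 am2 = N4 := by rw [ha2, form_swap h₁, ← ha4]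
  have p14 : B a₁ a4 = N3 := by rw [ha4, ← form_swap h₁, f1, p1m2]
  have p24 : B a2 a4 = M := by rw [ha2, ha4, h₁.2.1, p0m2]
  have p34 : B a3 a4 = L := by rw [ha3, ha4, h₁.2.1, pm1m2]
  set N5 := B a3 am2 with hN5def
  have p3m2 : B a3 am2 = N5 := hN5def.symm
  have pm14 : B am1 a4 = N5 := by rw [ha4, ← form_swap h₁, ← ha3]
  set N6 := B a4 am2 with hN6def
  have p4m2 : B a4 am2 = N6 := hN6def.symm
  -- inner products with the invariant products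
  have k0 : B a₀ s = 31 / 32 * L - 1 / 32 := form_sOf hS h₀ hn₀ hL
  have k1 : B a₁ s = 31 / 32 * L - 1 / 32 := by
    rw [hs, hS.sOf_comm]; exact form_sOf hS h₁ hn₁ ((hS.symm a₁ a₀).trans hL)
  have k2 : B a2 s = 31 / 32 * L - 1 / 32 := by rw [ha2, form_swap h₁, s_1, k0]
  have km1 : B am1 s = 31 / 32 * L - 1 / 32 := by rw [ham1, form_swap h₀, s_0, k1]
  have k3 : B a3 s = 31 / 32 * L - 1 / 32 := by rw [ha3, form_swap h₁, s_1, km1]
  have q0 : B a₀ s2 = 31 / 32 * M - 1 / 32 := form_sOf hS h₀ hn₀ hM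
  have q2 : B a2 s2 = 31 / 32 * M - 1 / 32 := by rw [ha2, form_swap h₁, s2_1, q0]
  have q4 : B a4 s2 = 31 / 32 * M - 1 / 32 := by
    rw [ha4, form_swap h₁, s2_1, ham2, form_swap h₀, s2_0, q2]
  have r1 : B a₁ S = 31 / 32 * M - 1 / 32 := form_sOf hS h₁ hn₁ hM1
  have rm1 : B am1 S = 31 / 32 * M - 1 / 32 := by rw [ham1, form_swap h₀, S_0, r1]
  have r3 : B a3 S = 31 / 32 * M - 1 / 32 := by rw [ha3, form_swap h₁, S_1, rm1]
  have q1 : B a₁ s2 = 31 / 32 * L - 1 / 32 + 1 / 32 * (M - L) := by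
    have e : B a₁ (mul a₀ a2) = B a2 s + 1 / 32 * (M + L) := by
      rw [hS.assoc, hS.comm a₁ a₀, mul_eq_sOf a₀ a₁, ← hs]
      simp only [map_add, map_smul, LinearMap.add_apply, LinearMap.smul_apply, smul_eq_mul, hM, p12,
        hS.symm s a2]
    rw [hs2]; unfold sOf
    rw [map_sub, e, k2, map_smul, map_add, p12, hS.symm a₁ a₀, hL, smul_eq_mul]
    ring
  have r0 : B a₀ S = 31 / 32 * L - 1 / 32 + 1 / 32 * (M - L) := by
    have e : B a₀ (mul a₁ am1) = B am1 s + 1 / 32 * (L + M) := by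
      rw [hS.assoc, mul_eq_sOf a₀ a₁, ← hs]
      simp only [map_add, map_smul, LinearMap.add_apply, LinearMap.smul_apply, smul_eq_mul, p0m1, hM1,
        hS.symm s am1]
    rw [hSdef]; unfold sOf
    rw [map_sub, e, km1, map_smul, map_add, p0m1, hL, smul_eq_mul]
    ring
  have r2 : B a2 S = 31 / 32 * L - 1 / 32 + 1 / 32 * (M - L) := by rw [ha2, form_swap h₁, S_1, r0]
  have r4 : B a4 S = 31 / 32 * L - 1 / 32 + 1 / 32 * (M - L) := by
    rw [ha4, form_swap h₁, S_1, ham2, form_swap h₀, S_0, r2]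
  have qm1 : B am1 s2 = 31 / 32 * L - 1 / 32 + 1 / 32 * (M - L) := by rw [ham1, form_swap h₀, s2_0, q1]
  have q3 : B a3 s2 = 31 / 32 * L - 1 / 32 + 1 / 32 * (M - L) := by rw [ha3, form_swap h₁, s2_1, qm1]
  -- the two centres
  obtain ⟨hY, hX0⟩ := center hS h₀ h₁ hn₀ hn₁ hL hM
  obtain ⟨-, hX1⟩ := center hS h₁ h₀ hn₁ hn₀ ((hS.symm a₁ a₀).trans hL) hM1
  rw [hS.sOf_comm a₁ a₀] at hX1
  simp only [← ham1, ← ha2, ← ham2, ← ha3, ← hs, ← hs2, ← hSdef] at hY hX0 hX1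
  rw [hX0] at hX1
  have hA3 : a3 = am2 + (256 * L - 6) • (am1 - a2) + coefP L M • (a₀ - a₁) + (32 : ℝ) • (S - s2) := by
    unfold coefP
    linear_combination (norm := module) (-196608 / 49 : ℝ) • hX1
  -- multiplication by the axis
  have m0m2 : mul a₀ am2 = s2 + (1 / 32 : ℝ) • (a₀ + am2) := by
    have h := congrArg μ₀ (mul_eq_sOf (mul := mul) a₀ a2)
    rwa [h₀.1, f0, map_add, map_smul, map_add, ← hs2, s2_0, f0, ← ham2] at h
  have m0m1 : mul a₀ am1 = s + (1 / 32 : ℝ) • (a₀ + am1) := by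
    have h := congrArg μ₀ (mul_eq_sOf (mul := mul) a₀ a₁)
    rwa [h₀.1, f0, map_add, map_smul, map_add, ← hs, s_0, f0, ← ham1] at h
  have m02 : mul a₀ a2 = s2 + (1 / 32 : ℝ) • (a₀ + a2) := mul_eq_sOf a₀ a2
  have m01 : mul a₀ a₁ = s + (1 / 32 : ℝ) • (a₀ + a₁) := mul_eq_sOf a₀ a₁
  have m0s2 : mul a₀ s2 = (31 / 32 * M - 1 / 32) • a₀ + (7 / 32 : ℝ) •
      (s2 + (1 / 32 - M) • a₀ + (1 / 64 : ℝ) • (a2 + am2)) := mul_sOf hS h₀ hn₀ hM
  have hdot : ∀ x : V, B x (mul a₀ a3) = B x (mul a₀ am2) + (256 * L - 6) * (B x (mul a₀ am1) -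
      B x (mul a₀ a2)) + coefP L M * (B x (mul a₀ a₀) - B x (mul a₀ a₁)) +
      32 * (B x (mul a₀ S) - B x (mul a₀ s2)) := by
    intro x
    conv_lhs => rw [hA3]
    simp only [map_add, map_sub, map_smul, smul_eq_mul]
  have hA3dot : ∀ x : V, B x a3 = B x am2 + (256 * L - 6) * (B x am1 - B x a2) +
      coefP L M * (B x a₀ - B x a₁) + 32 * (B x S - B x s2) := by
    intro x
    conv_lhs => rw [hA3]
    simp only [map_add, map_sub, map_smul, smul_eq_mul]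
  have hI3 : N3 = ip3 L M := by
    have h := hA3dot a₀
    rw [p03, p0m2, p0m1, hM, hn₀, hL, r0, q0] at h
    rw [ip3]; linarith
  have hI4 : N4 = ip4 L M := by
    have h := hA3dot a2
    rw [hS.symm a2 a3, p32, p2m2, p2m1, n_2, hS.symm a2 a₀, hM, hS.symm a2 a₁, p12, r2, q2] at h
    rw [ip4, ← hI3]; linarith
  have p3m1 : B a3 am1 = N4 := by
    have h := hA3dot am1
    rw [pm1m2, n_m1, hS.symm am1 a2, p2m1, hS.symm am1 a₀, p0m1, hS.symm am1 a₁, hM1, rm1, qm1] at h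
    rw [hS.symm a3 am1, hI4, ip4, ← hI3]
    linarith
  have hI5 : N5 = ip5 L M := by
    have h := hA3dot a3
    rw [n_3, p3m2, p3m1, p32, hS.symm a3 a₀, p03, hS.symm a3 a₁, p13, r3, q3] at h
    rw [ip5, ← hI4, ← hI3]; linarith
  have hI6 : N6 = ip6 L M := by
    have h := hA3dot a4
    rw [hS.symm a4 a3, p34, p4m2, hS.symm a4 am1, pm14, hS.symm a4 a2, p24, hS.symm a4 a₀, p04,
      hS.symm a4 a₁, p14, r4, q4] at h
    rw [ip6, ← hI5, ← hI4, ← hI3]; linarith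
  -- the two relations
  have hf : relF L M = 0 := by
    have h := hdot a2
    have e : B a2 (mul a₀ a3) = B a3 s2 + 1 / 32 * (N3 + L) := by
      rw [hS.assoc, hS.comm a2 a₀, m02]
      simp only [map_add, map_smul, LinearMap.add_apply, LinearMap.smul_apply, smul_eq_mul, p03,
        hS.symm a2 a3, p32, hS.symm s2 a3]
    rw [e, m0m2, m0m1, m02, m01, Majorana.idem h₀, hY, m0s2] at h
    simp only [map_add, map_smul, smul_eq_mul, p2m2, p2m1, n_2, hS.symm a2 a₀, hM, hS.symm a2 a₁, p12,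
      k2, q2, q3, hI4, hI3, ip4, ip3, coefP] at h
    unfold relF
    linarith
  have hg : relG L M = 0 := by
    have h := hdot a3
    have e : B a3 (mul a₀ a3) = N3 := by
      rw [hS.comm a₀ a3, hS.assoc, i_3, hS.symm a3 a₀, p03]
    rw [e, m0m2, m0m1, m02, m01, Majorana.idem h₀, hY, m0s2] at h
    simp only [map_add, map_smul, smul_eq_mul, p3m2, p3m1, p32, hS.symm a3 a₀, p03, hS.symm a3 a₁, p13,
      k3, q3, hI5, hI4, hI3, ip5, ip4, ip3, coefP] at h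
    unfold relG
    linarith
  -- the group
  have t0 : μ₀⁻¹ = μ₀ := inv_eq_of_mul_eq_one_right (sq_one h₀)
  have t1 : μ₁⁻¹ = μ₁ := inv_eq_of_mul_eq_one_right (sq_one h₁)
  have A1 : IsMajoranaPair mul B (μ₀ * μ₁ * μ₀⁻¹) am1 := Majorana.map h₁ μ₀ h₀.1 h₀.2.1
  have A2 : IsMajoranaPair mul B (μ₁ * μ₀ * μ₁⁻¹) a2 := Majorana.map h₀ μ₁ h₁.1 h₁.2.1
  have Am2 : IsMajoranaPair mul B (μ₀ * (μ₁ * μ₀ * μ₁⁻¹) * μ₀⁻¹) am2 := Majorana.map A2 μ₀ h₀.1 h₀.2.1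
  have A3 : IsMajoranaPair mul B (μ₁ * (μ₀ * μ₁ * μ₀⁻¹) * μ₁⁻¹) a3 := Majorana.map A1 μ₁ h₁.1 h₁.2.1
  have A4 : IsMajoranaPair mul B (μ₁ * (μ₀ * (μ₁ * μ₀ * μ₁⁻¹) * μ₀⁻¹) * μ₁⁻¹) a4 :=
    Majorana.map Am2 μ₁ h₁.1 h₁.2.1
  have key : ∀ (n : ℕ), (μ₁ * μ₀) ^ n = 1 → (μ₀ * μ₁) ^ n = 1 := by
    intro n hn
    have e : μ₀ * μ₁ = (μ₁ * μ₀)⁻¹ := by rw [mul_inv_rev, t0, t1]
    rw [e, inv_pow, hn, inv_one]
  rcases cases L M hf hg with h | h | h | h | h | h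
  · refine ⟨1, le_rfl, by norm_num, ?_⟩
    have e : a₁ = a₀ := (eq_of_form_one hpos hS.symm hn₀ hn₁ (hL.trans h)).symm
    have e' : μ₁ = μ₀ := eq_of_axis (μ := μ₁) (a := a₀) (by rw [← e]; exact h₁) h₀
    rw [pow_one, e', sq_one h₀]
  · refine ⟨2, by norm_num, by norm_num, key 2 ?_⟩
    have e : a2 = a₀ := (eq_of_form_one hpos hS.symm hn₀ n_2 (hM.trans h)).symm
    have := mul_inv_eq_one.2 (eq_of_axis (a := a₀) (by rw [← e]; exact A2) h₀)
    simpa only [t0, t1, pow_succ, pow_zero, one_mul, mul_assoc] using this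
  · refine ⟨3, by norm_num, by norm_num, key 3 ?_⟩
    have e : a3 = a₀ := (eq_of_form_one hpos hS.symm hn₀ n_3 (p03.trans (hI3.trans h))).symm
    have := mul_inv_eq_one.2 (eq_of_axis (a := a₀) (by rw [← e]; exact A3) h₀)
    simpa only [t0, t1, pow_succ, pow_zero, one_mul, mul_assoc] using this
  · refine ⟨4, by norm_num, by norm_num, key 4 ?_⟩
    have e : a4 = a₀ := (eq_of_form_one hpos hS.symm hn₀ n_4 (p04.trans (hI4.trans h))).symm
    have := mul_inv_eq_one.2 (eq_of_axis (a := a₀) (by rw [← e]; exact A4) h₀)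
    simpa only [t0, t1, pow_succ, pow_zero, one_mul, mul_assoc] using this
  · refine ⟨5, by norm_num, by norm_num, key 5 ?_⟩
    have e : a4 = am1 := (eq_of_form_one hpos hS.symm n_m1 n_4 (pm14.trans (hI5.trans h))).symm
    have := mul_inv_eq_one.2 (eq_of_axis (a := am1) (by rw [← e]; exact A4) A1)
    simpa only [t0, t1, mul_inv_rev, inv_inv, pow_succ, pow_zero, one_mul, mul_assoc] using this
  · refine ⟨6, by norm_num, by norm_num, key 6 ?_⟩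
    have e : a4 = am2 := eq_of_form_one hpos hS.symm n_4 n_m2 (p4m2.trans (hI6.trans h))
    have := mul_inv_eq_one.2 (eq_of_axis (a := am2) (by rw [← e]; exact A4) Am2)
    simpa only [t0, t1, mul_inv_rev, inv_inv, pow_succ, pow_zero, one_mul, mul_assoc] using this

end Cfsg.Agent.H94.Sakuma
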